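import Cfsg.Agent.OD.Pre
import Cfsg.Agent.H6.SoC.F0
import Cfsg.Agent.H6.SoC.O
set_option autoImplicit false
set_option maxRecDepth 100000
set_option Elab.async false
set_option linter.all false
namespace CfH6.SoC
open CfH6 CfH6.D MulAction
theorem p0 : Rng (P.chk) 0 586 := rng_of 0 4 74 586 (by decide +kernel)
theorem c0 : (QO.ok && Nat.blt 0 QO.m && Nat.beq (P.chkCos QO trO 586 LM ed 0 [nat_lit 47, nat_lit 44, nat_lit 42, nat_lit 40, nat_lit 38, nat_lit 36, nat_lit 34, nat_lit 32] 0 0 1 ct0) 0) = true := by decide +kernel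
theorem c1 : (QO.ok && Nat.blt 0 QO.m && Nat.beq (P.chkCos QO trO 586 LM ed 1 [nat_lit 45, nat_lit 43, nat_lit 41, nat_lit 39, nat_lit 37, nat_lit 35, nat_lit 33] 1 0 5 ct1) 0) = true := by decide +kernel
theorem l1 : (S32D.QD.ok && Nat.beq (chkLevs S32D.QD S32D.trD P.cdK (P.okE 586 1) lev1 []) 0 && Nat.beq (lev1.map Lev.c).prod 503193600) = true := by decide +kernel
theorem c2 : (QO.ok && Nat.blt 0 QO.m && Nat.beq (P.chkCos QO trO 586 LM ed 2 [nat_lit 100, nat_lit 98, nat_lit 96, nat_lit 94, nat_lit 65, nat_lit 83, nat_lit 492] 6 0 5 ct2) 0) = true := by decide +kernel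
theorem l2 : (S32D.QD.ok && Nat.beq (chkLevs S32D.QD S32D.trD P.cdK (P.okE 586 2) lev2 []) 0 && Nat.beq (lev2.map Lev.c).prod 503193600) = true := by decide +kernel
theorem c3 : (QO.ok && Nat.blt 0 QO.m && Nat.beq (P.chkCos QO trO 586 LM ed 3 [nat_lit 106, nat_lit 240, nat_lit 104, nat_lit 135, nat_lit 122] 11 0 9 ct3) 0) = true := by decide +kernel
theorem l3 : (S32D.QD.ok && Nat.beq (chkLevs S32D.QD S32D.trD P.cdK (P.okE 586 3) lev3 []) 0 && Nat.beq (lev3.map Lev.c).prod 1209600) = true := by decide +kernel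
theorem c4 : (QO.ok && Nat.blt 0 QO.m && Nat.beq (P.chkCos QO trO 586 LM ed 4 [nat_lit 167, nat_lit 154, nat_lit 153, nat_lit 152, nat_lit 151, nat_lit 150, nat_lit 163, nat_lit 148] 20 0 4 ct4) 0) = true := by decide +kernel
theorem l4 : (S32D.QD.ok && Nat.beq (chkLevs S32D.QD S32D.trD P.cdK (P.okE 586 4) lev4 []) 0 && Nat.beq (lev4.map Lev.c).prod 6635520) = true := by decide +kernel
theorem c5 : (QO.ok && Nat.blt 0 QO.m && Nat.beq (P.chkCos QO trO 586 LM ed 5 [nat_lit 456, nat_lit 337, nat_lit 336, nat_lit 335, nat_lit 513, nat_lit 334, nat_lit 330, nat_lit 329] 24 0 1 ct5) 0) = true := by decide +kernel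
theorem l5 : (S32D.QD.ok && Nat.beq (chkLevs S32D.QD S32D.trD P.cdK (P.okE 586 5) lev5 []) 0 && Nat.beq (lev5.map Lev.c).prod 2690072985600) = true := by decide +kernel
theorem c8 : (QO.ok && Nat.blt 0 QO.m && Nat.beq (P.chkCos QO trO 586 LM ed 8 [nat_lit 358, nat_lit 357, nat_lit 367, nat_lit 356, nat_lit 500, nat_lit 355, nat_lit 353, nat_lit 412] 25 0 4 ct8) 0) = true := by decide +kernel
theorem l8 : (S32D.QD.ok && Nat.beq (chkLevs S32D.QD S32D.trD P.cdK (P.okE 586 8) lev8 []) 0 && Nat.beq (lev8.map Lev.c).prod 6635520) = true := by decide +kernel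
theorem c9 : (QO.ok && Nat.blt 0 QO.m && Nat.beq (P.chkCos QO trO 586 LM ed 9 [nat_lit 555, nat_lit 525, nat_lit 516, nat_lit 547, nat_lit 521] 29 0 2 ct9) 0) = true := by decide +kernel
theorem l9 : (S32D.QD.ok && Nat.beq (chkLevs S32D.QD S32D.trD P.cdK (P.okE 586 9) lev9 []) 0 && Nat.beq (lev9.map Lev.c).prod 58786560) = true := by decide +kernel
theorem lB : (S32D.QD.ok && Nat.beq (chkLevs S32D.QD S32D.trD P.cdK (P.okP 586 trO) levB []) 0 && Nat.beq (levB.map Lev.c).prod 503193600) = true := by decide +kernel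
end CfH6.SoC
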